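import Groth.Agent.Lib.IsogFactor19.Basic
import Groth.Agent.Lib.Neutral.FieldFactor
import Groth.Agent.Lib.FamDesc6.Main
import Groth.Agent.Lib.Chev24.Albanese
import Groth.Agent.Lib.AlgGrp14.Core
import Groth.Agent.Lib.GrpDeligne.Factor

/-!
# Stabilisation of the images of powers
-/

set_option autoImplicit false
set_option linter.all false
set_option backward.isDefEq.respectTransparency false
set_option maxHeartbeats 1000000

universe u

open CategoryTheory CategoryTheory.Limits MonoidalCategory CartesianMonoidalCategory MonObj GrpObj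
open AlgebraicGeometry

namespace GrothLib.TorsLift2

variable {k : Type u} [Field k]

theorem lfp_left {X Y : Over (Spec (CommRingCat.of k))} [LocallyOfFiniteType X.hom] [LocallyOfFiniteType Y.hom]
    (f : X ⟶ Y) : LocallyOfFinitePresentation f.left := by
  haveI : LocallyOfFiniteType f.left := by
    haveI : LocallyOfFiniteType (f.left ≫ Y.hom) := by rw [Over.w f]; infer_instance
    exact locallyOfFiniteType_of_comp f.left Y.hom
  haveI : IsLocallyNoetherian Y.left := LocallyOfFiniteType.isLocallyNoetherian Y.hom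
  infer_instance

theorem qc_left {X Y : Over (Spec (CommRingCat.of k))} [QuasiCompact X.hom] [IsSeparated Y.hom] (f : X ⟶ Y) :
    QuasiCompact f.left := by
  haveI : QuasiCompact (f.left ≫ Y.hom) := by rw [Over.w f]; infer_instance
  exact QuasiCompact.of_comp f.left Y.hom

/-- The powers of a commutative group of finite type have a stable image, on which the powers are covers. -/
theorem exists_stable_image (H : Over (Spec (CommRingCat.of k))) [GrpObj H] [IsCommMonObj H]
    [LocallyOfFiniteType H.hom] [QuasiCompact H.hom] (n : ℕ) :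
    ∃ (a : ℕ) (I : Over (Spec (CommRingCat.of k))) (_ : GrpObj I) (i : I ⟶ H) (p : H ⟶ I),
      IsMonHom i ∧ IsClosedImmersion i.left ∧ LocallyOfFiniteType I.hom ∧ QuasiCompact I.hom ∧
      p ≫ i = (𝟙 H : H ⟶ H) ^ (n ^ a) ∧
      ∀ N : ℕ, Flat ((𝟙 I : I ⟶ I) ^ (n ^ N)).left ∧ Surjective ((𝟙 I : I ⟶ I) ^ (n ^ N)).left := by
  haveI : IsSeparated H.hom := GrpSchField.isSeparated H
  haveI : IsLocallyNoetherian H.left := LocallyOfFiniteType.isLocallyNoetherian H.hom
  haveI : CompactSpace H.left := QuasiCompact.compactSpace_of_compactSpace H.hom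
  haveI : IsNoetherian H.left := ⟨⟩
  haveI := GrothLib.Chev24.wellFoundedGT_idealData H.left
  haveI hpm : ∀ m : ℕ, IsMonHom ((𝟙 H : H ⟶ H) ^ m) := fun m => GrpDeligne.isMonHom_pow (𝟙 H) m
  haveI hpq : ∀ m : ℕ, QuasiCompact ((𝟙 H : H ⟶ H) ^ m).left := fun m => qc_left _
  let J : ℕ → H.left.IdealSheafData := fun j => ((𝟙 H : H ⟶ H) ^ (n ^ j)).left.ker
  obtain ⟨_, ⟨a, rfl⟩, hmax⟩ := (wellFounded_gt (α := H.left.IdealSheafData)).has_min (Set.range J)
    (Set.range_nonempty J)
  have hle : J a ≤ J (a + 1) := by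
    have h : (𝟙 H : H ⟶ H) ^ (n ^ (a + 1)) = ((𝟙 H : H ⟶ H) ^ n) ≫ ((𝟙 H : H ⟶ H) ^ (n ^ a)) := by
      rw [MonObj.comp_pow, Category.comp_id, ← pow_mul, ← pow_succ']
    show _ ≤ ((𝟙 H : H ⟶ H) ^ (n ^ (a + 1))).left.ker
    rw [h, Over.comp_left]
    exact Scheme.Hom.le_ker_comp _ _
  have heq : J (a + 1) = J a := (eq_of_le_of_not_lt hle (hmax _ ⟨a + 1, rfl⟩)).symm
  obtain ⟨I, _, p, i, hp, hi, hpi, hps, hpf, -, him, hIl, -⟩ :=
    Neutral.exists_factor_field ((𝟙 H : H ⟶ H) ^ (n ^ a))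
  haveI := hp; haveI := hi; haveI := him; haveI := hIl; haveI := hps; haveI := hpf
  obtain ⟨hic, hpq'⟩ := Neutral.isClosedImmersion_factor ((𝟙 H : H ⟶ H) ^ (n ^ a)) hpi
  haveI := hic; haveI := hpq'
  haveI : QuasiCompact I.hom := by rw [← Over.w i]; infer_instance
  haveI : IsSeparated I.hom := GrpSchField.isSeparated I
  haveI : IsCommMonObj I := AlgGrp14.isCommMonObj_of_mono i
  haveI : IsMonHom ((𝟙 I : I ⟶ I) ^ n) := GrpDeligne.isMonHom_pow (𝟙 I) n
  let f : H ⟶ I := p ≫ ((𝟙 I : I ⟶ I) ^ n)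
  have hfi : f ≫ i = (𝟙 H : H ⟶ H) ^ (n ^ (a + 1)) := by
    rw [Category.assoc, MonObj.pow_comp, Category.id_comp, MonObj.comp_pow, hpi, ← pow_mul, ← pow_succ]
  haveI : QuasiCompact f.left := qc_left _
  obtain ⟨I', _, p', i', hp', hi', hpi', hps', hpf', -, him', hIl', -⟩ := Neutral.exists_factor_field f
  haveI := hp'; haveI := hi'; haveI := him'; haveI := hIl'; haveI := hps'; haveI := hpf'
  obtain ⟨hic', hpq''⟩ := Neutral.isClosedImmersion_factor f hpi'
  haveI := hic'; haveI := hpq''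
  haveI : IsClosedImmersion (i'.left ≫ i.left) := inferInstance
  have hker : (i'.left ≫ i.left).ker ≤ (p.left ≫ i.left).ker := by
    show _ ≤ (p ≫ i).left.ker
    rw [hpi]
    refine le_trans ?_ heq.le
    show _ ≤ ((𝟙 H : H ⟶ H) ^ (n ^ (a + 1))).left.ker
    rw [← hfi, ← hpi', Category.assoc, Over.comp_left, Over.comp_left]
    exact Scheme.Hom.le_ker_comp _ _
  let l := IsClosedImmersion.lift (i'.left ≫ i.left) (p.left ≫ i.left) hker
  have hl : l ≫ i'.left = p.left := by
    rw [← cancel_mono i.left, Category.assoc]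
    exact IsClosedImmersion.lift_fac _ _ _
  haveI : LocallyOfFinitePresentation p.left := lfp_left p
  haveI : IsIso i'.left := by
    rw [IsClosedImmersion.isIso_iff_ker_eq_bot, eq_bot_iff, ← FamDesc6.ker_eq_bot_of_fppf p.left, ← hl]
    exact Scheme.Hom.le_ker_comp _ _
  haveI hff : Flat f.left := by rw [← hpi', Over.comp_left]; infer_instance
  haveI hfs : Surjective f.left := by rw [← hpi', Over.comp_left]; infer_instance
  haveI : Flat (p.left ≫ ((𝟙 I : I ⟶ I) ^ n).left) := hff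
  haveI : Surjective (p.left ≫ ((𝟙 I : I ⟶ I) ^ n).left) := hfs
  haveI h1f : Flat ((𝟙 I : I ⟶ I) ^ n).left := FamDesc6.flat_of_comp_of_flat_surjective p.left _
  haveI h1s : Surjective ((𝟙 I : I ⟶ I) ^ n).left := Surjective.of_comp p.left _
  refine ⟨a, I, inferInstance, i, p, hi, hic, hIl, inferInstance, hpi, fun N => ?_⟩
  induction N with
  | zero => rw [pow_zero, pow_one]; exact ⟨inferInstanceAs (Flat (𝟙 I.left)), inferInstanceAs (Surjective (𝟙 I.left))⟩
  | succ N ih =>
    haveI := ih.1; haveI := ih.2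
    rw [show (𝟙 I : I ⟶ I) ^ (n ^ (N + 1)) = ((𝟙 I : I ⟶ I) ^ n) ≫ ((𝟙 I : I ⟶ I) ^ (n ^ N)) by
      rw [MonObj.comp_pow, Category.comp_id, ← pow_mul, ← pow_succ'], Over.comp_left]
    exact ⟨inferInstance, inferInstance⟩

end GrothLib.TorsLift2
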